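import Mathlib

/-! Topology of binary coproducts of schemes. -/

set_option autoImplicit false
universe u

open AlgebraicGeometry CategoryTheory Limits

namespace Groth.Agent.CoprodLib

variable {X Y : Scheme.{u}}

theorem isClosedEmbedding_inl : Topology.IsClosedEmbedding (coprod.inl : X ⟶ X ⨿ Y) := by
  refine ⟨(coprod.inl : X ⟶ X ⨿ Y).isOpenEmbedding.isEmbedding, ?_⟩
  rw [← isOpen_compl_iff, (isCompl_range_inl_inr X Y).compl_eq]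
  exact (coprod.inr : Y ⟶ X ⨿ Y).isOpenEmbedding.isOpen_range

theorem isClosedEmbedding_inr : Topology.IsClosedEmbedding (coprod.inr : Y ⟶ X ⨿ Y) := by
  refine ⟨(coprod.inr : Y ⟶ X ⨿ Y).isOpenEmbedding.isEmbedding, ?_⟩
  rw [← isOpen_compl_iff, (isCompl_range_inl_inr X Y).symm.compl_eq]
  exact (coprod.inl : X ⟶ X ⨿ Y).isOpenEmbedding.isOpen_range

theorem eq_union (s : Set ↥(X ⨿ Y)) :
    s = (coprod.inl : X ⟶ X ⨿ Y) '' ((coprod.inl : X ⟶ X ⨿ Y) ⁻¹' s) ∪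
      (coprod.inr : Y ⟶ X ⨿ Y) '' ((coprod.inr : Y ⟶ X ⨿ Y) ⁻¹' s) := by
  ext z
  refine ⟨fun hz => ?_, ?_⟩
  · rcases ((isCompl_range_inl_inr X Y).sup_eq_top.ge (Set.mem_univ z)) with ⟨a, rfl⟩ | ⟨a, rfl⟩
    · exact Or.inl ⟨a, hz, rfl⟩
    · exact Or.inr ⟨a, hz, rfl⟩
  · rintro (⟨a, ha, rfl⟩ | ⟨a, ha, rfl⟩) <;> exact ha

theorem isCompact_iff (s : Set ↥(X ⨿ Y)) : IsCompact s ↔
    IsCompact ((coprod.inl : X ⟶ X ⨿ Y) ⁻¹' s) ∧ IsCompact ((coprod.inr : Y ⟶ X ⨿ Y) ⁻¹' s) := by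
  refine ⟨fun h => ⟨isClosedEmbedding_inl.isCompact_preimage h, isClosedEmbedding_inr.isCompact_preimage h⟩,
    fun h => ?_⟩
  rw [eq_union s]
  exact (h.1.image (coprod.inl : X ⟶ X ⨿ Y).continuous).union (h.2.image (coprod.inr : Y ⟶ X ⨿ Y).continuous)

theorem preimage_inl {S : Scheme.{u}} (f : X ⟶ S) (g : Y ⟶ S) (s : Set S) :
    (coprod.inl : X ⟶ X ⨿ Y) ⁻¹' (coprod.desc f g ⁻¹' s) = f ⁻¹' s := by
  ext x
  show coprod.desc f g ((coprod.inl : X ⟶ X ⨿ Y) x) ∈ s ↔ _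
  rw [← Scheme.Hom.comp_apply, coprod.inl_desc]
  rfl

theorem preimage_inr {S : Scheme.{u}} (f : X ⟶ S) (g : Y ⟶ S) (s : Set S) :
    (coprod.inr : Y ⟶ X ⨿ Y) ⁻¹' (coprod.desc f g ⁻¹' s) = g ⁻¹' s := by
  ext x
  show coprod.desc f g ((coprod.inr : Y ⟶ X ⨿ Y) x) ∈ s ↔ _
  rw [← Scheme.Hom.comp_apply, coprod.inr_desc]
  rfl

end Groth.Agent.CoprodLib
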